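import Groth.Prelude.Def_CohTop
import Mathlib.CategoryTheory.Sites.LocallyBijective
import Mathlib.Topology.Sheaves.SheafCondition.UniqueGluing
import Mathlib.Topology.Sheaves.Flasque
import Mathlib.CategoryTheory.Abelian.Basic
import Mathlib.GroupTheory.Archimedean

/-! Constant sheaves on irreducible spaces. -/

set_option autoImplicit false
set_option backward.isDefEq.respectTransparency false
set_option linter.style.haveILetI false

universe u

open CategoryTheory CategoryTheory.Limits Opposite TopologicalSpace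

namespace Groth.Agent.TopIrr16

variable {X : TopCat.{u}} (A : Type u) [AddCommGroup A]

/-- The constant section. -/
noncomputable def cst (U : Opens X) : A →+ (CohTop.const X A).obj.obj (op U) :=
  ((toSheafify (Opens.grothendieckTopology X) ((Functor.const (Opens X)ᵒᵖ).obj (AddCommGrpCat.of A))).app (op U)).hom

theorem res_cst {U V : Opens X} (h : V ≤ U) (a : A) :
    (CohTop.const X A).obj.map (homOfLE h).op (cst A U a) = cst A V a :=
  (NatTrans.naturality_apply (toSheafify (Opens.grothendieckTopology X) ((Functor.const (Opens X)ᵒᵖ).obj (AddCommGrpCat.of A)))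
    (homOfLE h).op a).symm

theorem cst_injective (U : Opens X) (hU : (U : Set X).Nonempty) : Function.Injective (cst A U) := by
  intro a b hab
  obtain ⟨x, hx⟩ := hU
  have := Presheaf.equalizerSieve_mem (Opens.grothendieckTopology X)
    (toSheafify (Opens.grothendieckTopology X) ((Functor.const (Opens X)ᵒᵖ).obj (AddCommGrpCat.of A))) (X := op U) a b hab
  obtain ⟨V, f, hf, -⟩ := this x hx
  exact hf

theorem eq_of_empty (F : CohTop.Ab X) {U : Opens X} (hU : ¬ (U : Set X).Nonempty) (s t : F.obj.obj (op U)) : s = t :=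
  TopCat.Sheaf.eq_of_locally_eq' F (fun i : PEmpty.{u + 1} => i.elim) U (fun i => i.elim)
    (fun x hx => absurd ⟨x, hx⟩ hU) s t fun i => i.elim

theorem cst_surjective [IrreducibleSpace X] (U : Opens X) : Function.Surjective (cst A U) := by
  intro s
  by_cases hU : (U : Set X).Nonempty
  · obtain ⟨x₀, hx₀⟩ := hU
    have hT := Presheaf.imageSieve_mem (Opens.grothendieckTopology X)
      (toSheafify (Opens.grothendieckTopology X) ((Functor.const (Opens X)ᵒᵖ).obj (AddCommGrpCat.of A))) (U := op U) s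
    choose W f hf hW using fun x : U => hT x.1 x.2
    choose a ha using hf
    change ∀ x : U, cst A (W x) (a x) = (CohTop.const X A).obj.map (f x).op s at ha
    refine ⟨a ⟨x₀, hx₀⟩, TopCat.Sheaf.eq_of_locally_eq' (CohTop.const X A) W U f
      (fun x hx => Opens.mem_iSup.2 ⟨⟨x, hx⟩, hW _⟩) _ _ fun x => ?_⟩
    show (CohTop.const X A).obj.map (f x).op (cst A U _) = (CohTop.const X A).obj.map (f x).op s
    rw [← ha, show (f x) = homOfLE (f x).le from Subsingleton.elim _ _, res_cst]
    congr 1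
    have hne : ((W ⟨x₀, hx₀⟩ ⊓ W x : Opens X) : Set X).Nonempty :=
      nonempty_preirreducible_inter (W _).2 (W x).2 ⟨x₀, hW ⟨x₀, hx₀⟩⟩ ⟨x.1, hW x⟩
    refine cst_injective A _ hne ?_
    rw [← res_cst A (inf_le_left : W ⟨x₀, hx₀⟩ ⊓ W x ≤ _), ha, ← res_cst A (inf_le_right : W ⟨x₀, hx₀⟩ ⊓ W x ≤ W x), ha,
      ← ConcreteCategory.comp_apply, ← ConcreteCategory.comp_apply, ← Functor.map_comp, ← Functor.map_comp]
    exact congrArg (fun q => (CohTop.const X A).obj.map (Quiver.Hom.op q) s) (Subsingleton.elim _ _)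
  · exact ⟨0, eq_of_empty _ hU _ _⟩

theorem isFlasque_const [IrreducibleSpace X] : TopCat.Sheaf.IsFlasque (CohTop.const X A) where
  epi {U V} i := by
    refine (AddCommGrpCat.epi_iff_surjective _).2 fun s => ?_
    obtain ⟨a, rfl⟩ := cst_surjective A V.unop s
    exact ⟨cst A U.unop a, res_cst A i.unop.le a⟩

/-- Subobjects with the same values on every open coincide. -/
theorem imageSubobject_eq {Y : TopCat.{u}} {F G M : CohTop.Ab Y} (f : F ⟶ M) (g : G ⟶ M)
    (h : ∀ V : Opens Y, Set.range (f.hom.app (op V)) = Set.range (g.hom.app (op V))) :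
    imageSubobject f = imageSubobject g := by
  have key : ∀ {F G : CohTop.Ab Y} (f : F ⟶ M) (g : G ⟶ M),
      (∀ V : Opens Y, Set.range (f.hom.app (op V)) ⊆ Set.range (g.hom.app (op V))) →
      imageSubobject f ≤ imageSubobject g := by
    intro F G f g h
    have h0 : f ≫ cokernel.π g = 0 := by
      ext V x
      obtain ⟨y, hy⟩ := h V.unop ⟨x, rfl⟩
      show (cokernel.π g).hom.app V (f.hom.app V x) = 0
      rw [← hy]
      exact ConcreteCategory.congr_hom (congrArg (fun φ => φ.hom.app V) (cokernel.condition g)) y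
    exact imageSubobject_le f (kernel.lift (cokernel.π g) f h0 ≫ (Abelian.imageIsoImage g).hom ≫ (imageSubobjectIso g).inv)
      (by simp)
  exact le_antisymm (key f g fun V => (h V).le) (key g f fun V => (h V).ge)

theorem exists_open_image_eq [IrreducibleSpace X]
    (H : CohTop.Ab X) (ι : H ⟶ CohTop.const X (ULift.{u} ℤ)) [Mono ι] :
    ∃ (U : Opens X) (d : ℤ), U ≠ ⊥ ∧
      imageSubobject ((CohTop.restrFunctor U).map ι) =
        imageSubobject ((CohTop.restrFunctor U).map (d • 𝟙 (CohTop.const X (ULift.{u} ℤ)))) := by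
  let Sv : Set ℤ := {n | ∃ (V : Opens X) (_ : (V : Set X).Nonempty) (h : H.obj.obj (op V)),
    ι.hom.app (op V) h = cst (ULift.{u} ℤ) V (ULift.up n)}
  let D : AddSubgroup ℤ :=
    { carrier := Sv
      zero_mem' := ⟨⊤, by simp, 0, by rw [map_zero]; exact (map_zero _).symm⟩
      neg_mem' := by
        rintro n ⟨V, hV, h, hh⟩
        exact ⟨V, hV, -h, by rw [map_neg, hh, ← map_neg]; rfl⟩
      add_mem' := by
        rintro n n' ⟨V, hV, h, hh⟩ ⟨V', hV', h', hh'⟩
        refine ⟨V ⊓ V', nonempty_preirreducible_inter V.2 V'.2 hV hV',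
          H.obj.map (homOfLE inf_le_left).op h + H.obj.map (homOfLE inf_le_right).op h', ?_⟩
        rw [map_add, NatTrans.naturality_apply ι.hom, NatTrans.naturality_apply ι.hom, hh, hh', res_cst, res_cst,
          ← map_add]
        rfl }
  obtain ⟨d, hd⟩ := Int.subgroup_cyclic D
  have hdD : d ∈ D := by rw [hd]; exact AddSubgroup.subset_closure (Set.mem_singleton d)
  obtain ⟨U, hU, hu, hhu⟩ := hdD
  refine ⟨U, d, fun hb => by simp [hb] at hU, ?_⟩
  have hsmul : ∀ (V : Opens X) (n : ℤ),
      (d • 𝟙 (CohTop.const X (ULift.{u} ℤ))).hom.app (op V) (cst (ULift.{u} ℤ) V (ULift.up n)) =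
        cst (ULift.{u} ℤ) V (ULift.up (d * n)) := fun V n => by
    let Φ : (CohTop.const X (ULift.{u} ℤ) ⟶ CohTop.const X (ULift.{u} ℤ)) →+ (CohTop.const X (ULift.{u} ℤ)).obj.obj (op V) :=
      AddMonoidHom.mk' (fun φ => φ.hom.app (op V) (cst (ULift.{u} ℤ) V (ULift.up n))) fun _ _ => rfl
    show Φ (d • 𝟙 _) = _
    rw [map_zsmul]
    exact (map_zsmul (cst (ULift.{u} ℤ) V) d (ULift.up n)).symm.trans (congrArg _ (ULift.ext _ _ (smul_eq_mul d n)))
  have hrange : ∀ V : Opens X, V ≤ U →
      Set.range (ι.hom.app (op V)) = Set.range ((d • 𝟙 (CohTop.const X (ULift.{u} ℤ))).hom.app (op V)) := by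
    intro V hVU
    ext z
    constructor
    · rintro ⟨h, rfl⟩
      obtain ⟨⟨n⟩, hn⟩ := cst_surjective (ULift.{u} ℤ) V (ι.hom.app (op V) h)
      by_cases hV : (V : Set X).Nonempty
      · have : n ∈ D := ⟨V, hV, h, hn.symm⟩
        rw [hd, AddSubgroup.mem_closure_singleton] at this
        obtain ⟨k, hk⟩ := this
        refine ⟨cst _ V (ULift.up k), (hsmul V k).trans ?_⟩
        rw [show d * k = n by rw [← hk, smul_eq_mul, mul_comm]]
        exact hn
      · exact ⟨0, eq_of_empty _ hV _ _⟩
    · rintro ⟨s, rfl⟩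
      obtain ⟨⟨k⟩, rfl⟩ := cst_surjective (ULift.{u} ℤ) V s
      refine ⟨k • H.obj.map (homOfLE hVU).op hu, ?_⟩
      rw [map_zsmul, NatTrans.naturality_apply ι.hom, hhu, res_cst, ← map_zsmul, hsmul]
      exact congrArg _ (ULift.ext _ _ (mul_comm k d))
  refine imageSubobject_eq _ _ fun V => ?_
  exact hrange (U.isOpenEmbedding.isOpenMap.functor.obj V) (fun x => by rintro ⟨y, -, rfl⟩; exact y.2)

end Groth.Agent.TopIrr16
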