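import Groth.Prelude.Def_CohTop
import Groth.Agent.SiteCoh.ExtAcyclic
import Mathlib.Topology.Sheaves.Flasque
import Mathlib.CategoryTheory.Functor.OfSequence
import Mathlib.CategoryTheory.Sites.EpiMono
import Mathlib.Algebra.Category.Grp.Limits
import Mathlib.Algebra.Homology.ShortComplex.Ab

/-! Limits of towers of flasque sheaves. -/

set_option autoImplicit false
set_option backward.isDefEq.respectTransparency false
set_option linter.style.haveILetI false

universe u

open CategoryTheory CategoryTheory.Limits Opposite TopologicalSpace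

namespace Groth.Agent.TopIrr16

variable {X : TopCat.{u}}

/-- Sections over an open as a functor. -/
noncomputable abbrev sectF (U : Opens X) : CohTop.Ab X ⥤ AddCommGrpCat.{u} :=
  sheafToPresheaf (Opens.grothendieckTopology X) AddCommGrpCat.{u} ⋙ (evaluation _ _).obj (op U)

theorem sect_exact {S : ShortComplex (CohTop.Ab X)} (hS : S.ShortExact) (U : Opens X) (y : S.X₂.obj.obj (op U))
    (hy : S.g.hom.app (op U) y = 0) : ∃ x : S.X₁.obj.obj (op U), S.f.hom.app (op U) x = y := by
  haveI := hS.mono_f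
  exact (ShortComplex.ab_exact_iff _).1 (hS.exact.map_of_mono_of_preservesKernel (sectF U) inferInstance inferInstance) y hy

theorem sect_surjective {S : ShortComplex (CohTop.Ab X)} (hS : S.ShortExact) [TopCat.Sheaf.IsFlasque S.X₁] (U : Opens X) :
    Function.Surjective (S.g.hom.app (op U)) :=
  (AddCommGrpCat.epi_iff_surjective _).1 (TopCat.Sheaf.IsFlasque.epi_of_shortExact hS)

theorem kernel_shortExact {A B : CohTop.Ab X} (f : A ⟶ B) [Epi f] :
    (ShortComplex.mk (kernel.ι f) f (kernel.condition f)).ShortExact where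
  exact := ShortComplex.exact_kernel f

variable (M : ℕᵒᵖ ⥤ CohTop.Ab X)

theorem exists_section (U : Opens X) (s : ∀ n, (M.obj (op n)).obj.obj (op U))
    (hs : ∀ n, (M.map (homOfLE (Nat.le_succ n)).op).hom.app (op U) (s (n + 1)) = s n) :
    ∃ x : (limit M).obj.obj (op U), ∀ n, (limit.π M (op n)).hom.app (op U) x = s n := by
  let G := sectF U ⋙ forget AddCommGrpCat.{u}
  let hl := isLimitOfPreserves G (limit.isLimit M)
  let c : Cone (M ⋙ G) :=
    { pt := PUnit.{u + 1}
      π := NatTrans.ofOpSequence (fun n => TypeCat.ofHom fun _ => s n) (fun n => by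
        ext
        exact (hs n).symm) }
  exact ⟨hl.lift c PUnit.unit, fun n => ConcreteCategory.congr_hom (hl.fac c (op n)) PUnit.unit⟩

theorem section_ext (U : Opens X) (x y : (limit M).obj.obj (op U))
    (h : ∀ n, (limit.π M (op n)).hom.app (op U) x = (limit.π M (op n)).hom.app (op U) y) : x = y :=
  Concrete.isLimit_ext _ (isLimitOfPreserves (sectF U ⋙ forget AddCommGrpCat.{u}) (limit.isLimit M)) x y fun n => h n.unop

theorem isFlasque_limit (hM : ∀ n : ℕ, TopCat.Sheaf.IsFlasque (M.obj (op n)))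
    (he : ∀ n : ℕ, Epi (M.map (homOfLE (Nat.le_succ n)).op))
    (hk : ∀ n : ℕ, TopCat.Sheaf.IsFlasque (kernel (M.map (homOfLE (Nat.le_succ n)).op) : CohTop.Ab X)) :
    TopCat.Sheaf.IsFlasque (limit M : CohTop.Ab X) where
  epi {U V} i := by
    refine (AddCommGrpCat.epi_iff_surjective _).2 fun s => ?_
    have hres : ∀ n, Function.Surjective ((M.obj (op n)).obj.map i) := fun n =>
      (AddCommGrpCat.epi_iff_surjective _).1 ((hM n).epi i)
    let sn : ∀ n, (M.obj (op n)).obj.obj V := fun n => (limit.π M (op n)).hom.app V s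
    have hsn : ∀ n, (M.map (homOfLE (Nat.le_succ n)).op).hom.app V (sn (n + 1)) = sn n := fun n =>
      ConcreteCategory.congr_hom (congrArg (fun φ => φ.hom.app V) (limit.w M (homOfLE (Nat.le_succ n)).op)) s
    have step : ∀ n (t : {t : (M.obj (op n)).obj.obj U // (M.obj (op n)).obj.map i t = sn n}),
        ∃ t' : {t : (M.obj (op (n + 1))).obj.obj U // (M.obj (op (n + 1))).obj.map i t = sn (n + 1)},
          (M.map (homOfLE (Nat.le_succ n)).op).hom.app U t'.1 = t.1 := by
      intro n t
      haveI := he n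
      haveI : TopCat.Sheaf.IsFlasque (ShortComplex.mk (kernel.ι (M.map (homOfLE (Nat.le_succ n)).op)) _
          (kernel.condition (M.map (homOfLE (Nat.le_succ n)).op))).X₁ := hk n
      have hS := kernel_shortExact (M.map (homOfLE (Nat.le_succ n)).op)
      obtain ⟨y, hy⟩ := sect_surjective hS U.unop t.1
      obtain ⟨k, hk'⟩ := sect_exact hS V.unop ((M.obj (op (n + 1))).obj.map i y - sn (n + 1)) (by
        rw [map_sub]
        refine sub_eq_zero.2 ?_
        rw [show (M.map (homOfLE (Nat.le_succ n)).op).hom.app (op V.unop) (sn (n + 1)) = sn n from hsn n]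
        exact (NatTrans.naturality_apply (M.map (homOfLE (Nat.le_succ n)).op).hom i y).trans
          ((congrArg _ hy).trans t.2))
      obtain ⟨k', rfl⟩ := (AddCommGrpCat.epi_iff_surjective _).1 ((hk n).epi i) k
      refine ⟨⟨y - (kernel.ι (M.map (homOfLE (Nat.le_succ n)).op)).hom.app U k', ?_⟩, ?_⟩
      · rw [map_sub]
        refine (congrArg (_ - ·) ((NatTrans.naturality_apply (kernel.ι (M.map (homOfLE (Nat.le_succ n)).op)).hom i k').symm.trans hk')).trans ?_
        exact sub_sub_cancel _ _
      · rw [map_sub, show (M.map (homOfLE (Nat.le_succ n)).op).hom.app U y = t.1 from hy]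
        refine (congrArg (t.1 - ·) (ConcreteCategory.congr_hom (congrArg (fun φ : (kernel (M.map (homOfLE (Nat.le_succ n)).op) : CohTop.Ab X) ⟶ M.obj (op n) => φ.hom.app U) (kernel.condition _)) k')).trans ?_
        exact sub_zero _
    choose f hf using step
    let t : ∀ n, {t : (M.obj (op n)).obj.obj U // (M.obj (op n)).obj.map i t = sn n} := fun n =>
      Nat.rec ⟨(hres 0 (sn 0)).choose, (hres 0 (sn 0)).choose_spec⟩ (fun n t => f n t) n
    obtain ⟨x, hx⟩ := exists_section M U.unop (fun n => (t n).1) fun n => hf n (t n)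
    exact ⟨x, section_ext M V.unop _ _ fun n => (NatTrans.naturality_apply (limit.π M (op n)).hom i x).trans
      ((congrArg _ (hx n)).trans (t n).2)⟩

theorem epi_limMap (S : ShortComplex (ℕᵒᵖ ⥤ CohTop.Ab X)) (hS : S.ShortExact)
    (h1 : ∀ n : ℕ, TopCat.Sheaf.IsFlasque (S.X₁.obj (op n)))
    (he : ∀ n : ℕ, Epi (S.X₁.map (homOfLE (Nat.le_succ n)).op))
    (hk : ∀ n : ℕ, TopCat.Sheaf.IsFlasque (kernel (S.X₁.map (homOfLE (Nat.le_succ n)).op) : CohTop.Ab X)) :
    Epi (limMap S.g) := by
  suffices Sheaf.IsLocallySurjective (limMap S.g) from (Sheaf.isLocallySurjective_iff_epi' _ _).1 this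
  refine ⟨fun {U} s => ?_⟩
  suffices ∃ y, (limMap S.g).hom.app (op U) y = s by
    obtain ⟨y, hy⟩ := this
    refine (Opens.grothendieckTopology X).superset_covering (fun V g _ => ?_) ((Opens.grothendieckTopology X).top_mem U)
    exact ⟨(limit S.X₂).obj.map g.op y, (NatTrans.naturality_apply (limMap S.g).hom g.op y).trans (congrArg _ hy)⟩
  let sn : ∀ n, (S.X₃.obj (op n)).obj.obj (op U) := fun n => (limit.π S.X₃ (op n)).hom.app (op U) s
  have hsn : ∀ n, (S.X₃.map (homOfLE (Nat.le_succ n)).op).hom.app (op U) (sn (n + 1)) = sn n := fun n =>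
    ConcreteCategory.congr_hom (congrArg (fun φ => φ.hom.app (op U)) (limit.w S.X₃ (homOfLE (Nat.le_succ n)).op)) s
  have hlev : ∀ n, (S.map ((evaluation _ _).obj (op n))).ShortExact := fun n => hS.map_of_exact _
  have hsurj : ∀ n, Function.Surjective ((S.g.app (op n)).hom.app (op U)) := fun n =>
    haveI : TopCat.Sheaf.IsFlasque (S.map ((evaluation _ _).obj (op n))).X₁ := h1 n
    sect_surjective (hlev n) U
  have step : ∀ n (m : {m : (S.X₂.obj (op n)).obj.obj (op U) // (S.g.app (op n)).hom.app (op U) m = sn n}),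
      ∃ m' : {m : (S.X₂.obj (op (n + 1))).obj.obj (op U) // (S.g.app (op (n + 1))).hom.app (op U) m = sn (n + 1)},
        (S.X₂.map (homOfLE (Nat.le_succ n)).op).hom.app (op U) m'.1 = m.1 := by
    intro n m
    let a := (homOfLE (Nat.le_succ n)).op
    obtain ⟨y, hy⟩ := hsurj (n + 1) (sn (n + 1))
    obtain ⟨z, hz⟩ := sect_exact (hlev n) U ((S.X₂.map a).hom.app (op U) y - m.1) (by
      rw [map_sub]
      refine sub_eq_zero.2 ?_
      refine (ConcreteCategory.congr_hom (congrArg (fun φ => φ.hom.app (op U)) (S.g.naturality a)) y).trans ?_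
      exact (congrArg ((S.X₃.map a).hom.app (op U)) hy).trans ((hsn n).trans m.2.symm))
    haveI := he n
    haveI : TopCat.Sheaf.IsFlasque (ShortComplex.mk (kernel.ι (S.X₁.map a)) _ (kernel.condition (S.X₁.map a))).X₁ := hk n
    obtain ⟨z', rfl⟩ := sect_surjective (kernel_shortExact (S.X₁.map a)) U z
    refine ⟨⟨y - (S.f.app (op (n + 1))).hom.app (op U) z', ?_⟩, ?_⟩
    · rw [map_sub, hy]
      refine (congrArg (sn (n + 1) - ·) (ConcreteCategory.congr_hom
        (congrArg (fun φ => (φ.app (op (n + 1))).hom.app (op U)) S.zero) z')).trans ?_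
      exact sub_zero _
    · rw [map_sub]
      refine (congrArg (_ - ·) ((ConcreteCategory.congr_hom (congrArg (fun φ => φ.hom.app (op U)) (S.f.naturality a)) z').symm.trans hz)).trans ?_
      exact sub_sub_cancel _ _
  choose f hf using step
  let t : ∀ n, {m : (S.X₂.obj (op n)).obj.obj (op U) // (S.g.app (op n)).hom.app (op U) m = sn n} := fun n =>
    Nat.rec ⟨(hsurj 0 (sn 0)).choose, (hsurj 0 (sn 0)).choose_spec⟩ (fun n t => f n t) n
  obtain ⟨x, hx⟩ := exists_section S.X₂ U (fun n => (t n).1) fun n => hf n (t n)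
  refine ⟨x, section_ext S.X₃ U _ _ fun n => ?_⟩
  refine (ConcreteCategory.congr_hom (congrArg (fun φ => φ.hom.app (op U)) (limMap_π S.g (op n))) x).trans ?_
  exact (congrArg ((S.g.app (op n)).hom.app (op U)) (hx n)).trans (t n).2

end Groth.Agent.TopIrr16
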